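import Groth.Agent.MultTypeLib.GenMultType
import Groth.Agent.TransLib.MultEssFree

/-!
# Groups of multiplicative type of arbitrary type are essentially free
-/

universe u

open CategoryTheory CategoryTheory.Limits AlgebraicGeometry

set_option backward.isDefEq.respectTransparency false

namespace Groth.Agent.MultTypeGen

open TransLib

/-- A group of multiplicative type is essentially free and affine over the base. -/
theorem locDiag_essFree {S : Scheme.{u}} {H : Over S} [GrpObj H] (hH : MultTypeLib.GenMultType.IsMT H) :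
    IsAffineHom H.hom ∧ SGA3x.IsEssentiallyFree H.hom := by
  classical
  obtain ⟨S', f, hflat, hsurj, hqc, hloc⟩ := hH
  choose O hO M hM hiso using hloc
  have hbc : ∀ (s' : S') {T : Scheme.{u}} [IsAffine T] (t : T ⟶ (O s' : Scheme.{u})),
      ∃ e : pullback H.hom (t ≫ (O s').ι ≫ f) ≅ (Red.DS T (M s')).left,
        e.hom ≫ (Red.DS T (M s')).hom = pullback.snd H.hom (t ≫ (O s').ι ≫ f) := by
    intro s' T _ t
    obtain ⟨i⟩ := hiso s'
    let j : Red.bc ((O s').ι ≫ f) H ≅ Red.DS (O s' : Scheme.{u}) (M s') :=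
      ⟨i.hom.hom.hom, i.inv.hom.hom, congrArg (fun h => h.hom.hom) i.hom_inv_id,
        congrArg (fun h => h.hom.hom) i.inv_hom_id⟩
    have h0 : Limits.IsTerminal.from specULiftZIsTerminal T = t ≫ Limits.IsTerminal.from specULiftZIsTerminal _ :=
      specULiftZIsTerminal.hom_ext _ _
    let k : Red.bc (t ≫ (O s').ι ≫ f) H ≅ Red.DS T (M s') :=
      (Over.pullbackComp t ((O s').ι ≫ f)).app H ≪≫ (Over.pullback t).mapIso j ≪≫
        ((Over.pullbackComp t (Limits.IsTerminal.from specULiftZIsTerminal (O s' : Scheme.{u}))).app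
          (Red.diag (ULift.{u} ℤ) (M s'))).symm ≪≫
        (eqToIso (congrArg (fun z => Red.bc z (Red.diag (ULift.{u} ℤ) (M s'))) h0)).symm
    exact ⟨(Over.forget _).mapIso k, Over.w k.hom⟩
  -- finite families over affine opens
  have hfam : ∀ U : S.Opens, IsAffineOpen U → ∃ (κ : Type u) (_ : Finite κ) (T : κ → Scheme.{u})
      (_ : ∀ j, IsAffine (T j)) (q : ∀ j, T j ⟶ (U : Scheme.{u})), (∀ j, Flat (q j)) ∧ (∀ z, ∃ j y, q j y = z) ∧
      ∀ j, ∃ (s' : S') (t : T j ⟶ (O s' : Scheme.{u})), q j ≫ U.ι = t ≫ (O s').ι ≫ f := by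
    intro U hU
    obtain ⟨W, hWc, hWU⟩ := hqc U hU
    have hex : ∀ w : W, ∃ (B : S'.Opens), IsAffineOpen B ∧ (w : S') ∈ B ∧ B ≤ W ∧ B ≤ O w := fun w => by
      obtain ⟨B, hB, hwB, hBle⟩ := exists_isAffineOpen_mem_and_subset
        (show (w : S') ∈ W ⊓ O w from ⟨w.2, hO w⟩)
      exact ⟨B, hB, hwB, fun z hz => (hBle hz).1, fun z hz => (hBle hz).2⟩
    choose B hBa hwB hBW hBO using hex
    obtain ⟨t, ht⟩ := hWc.elim_finite_subcover (fun w => (B w : Set S')) (fun w => (B w).2)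
      fun w hw => Set.mem_iUnion.mpr ⟨⟨w, hw⟩, hwB _⟩
    have hle : ∀ w : t, B w.1 ≤ f ⁻¹ᵁ U := fun w z hz => by
      show f.base z ∈ (U : Set S)
      rw [← hWU]
      exact Set.mem_image_of_mem _ (hBW w.1 hz)
    refine ⟨t, inferInstance, fun w => B w.1, fun w => hBa w.1, fun w => f.resLE U (B w.1) (hle w),
      fun w => inferInstance, fun z => ?_, fun w => ⟨w.1.1, S'.homOfLE (hBO w.1), ?_⟩⟩
    · obtain ⟨y, hy, hyz⟩ : z.1 ∈ f.base '' (W : Set S') := hWU.symm ▸ z.2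
      obtain ⟨w, hw, hyw⟩ := Set.mem_iUnion₂.mp (ht hy)
      refine ⟨⟨w, hw⟩, ⟨y, hyw⟩, Subtype.ext ?_⟩
      rw [← hyz]
      exact congrArg (fun m => m.base (⟨y, hyw⟩ : B w)) (f.resLE_comp_ι (hle ⟨w, hw⟩))
    · rw [Scheme.Hom.resLE_comp_ι, Scheme.homOfLE_ι_assoc]
  haveI := EtFound.fpqc_isAffineHom.{u}
  have haff : IsAffineHom H.hom := by
    have hcov : FpqcDescLib.Covers f :=
      FpqcDescLib.covers_of_hcov f ⟨S', f, 𝟙 _, Category.id_comp _, hsurj, hflat, hqc⟩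
    refine hcov.descends @IsAffineHom H.hom (pullback.snd H.hom f) (pullback.fst H.hom f)
      (IsPullback.of_hasPullback H.hom f).flip ?_
    refine IsZariskiLocalAtTarget.of_forall_exists_morphismRestrict fun s' => ?_
    obtain ⟨B, hB, hsB, hBO⟩ := exists_isAffineOpen_mem_and_subset (hO s')
    refine ⟨B, hsB, ?_⟩
    haveI : IsAffine (B : Scheme.{u}) := hB
    obtain ⟨e, he⟩ := hbc s' (S'.homOfLE hBO)
    haveI := (exists_chart_DS (T := (B : Scheme.{u})) (M s')).1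
    have ht : S'.homOfLE hBO ≫ (O s').ι ≫ f = B.ι ≫ f := Scheme.homOfLE_ι_assoc _ _ _
    have H1 : IsPullback ((pullback.snd H.hom f ⁻¹ᵁ B).ι ≫ pullback.fst H.hom f) (pullback.snd H.hom f ∣_ B) H.hom
        (B.ι ≫ f) :=
      (isPullback_morphismRestrict _ B).flip.paste_horiz (IsPullback.of_hasPullback H.hom f)
    rw [← ht] at H1
    rw [← H1.isoPullback_hom_snd, ← he]
    infer_instance
  refine ⟨haff, essFree_of_family H.hom fun s => ?_⟩
  obtain ⟨U, hU, hsU, -⟩ := exists_isAffineOpen_mem_and_subset (show s ∈ (⊤ : S.Opens) from trivial)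
  obtain ⟨κ, i₁, T, i₂, q, hqf, hqs, hqt⟩ := hfam U hU
  refine ⟨U, hsU, hU, κ, i₁, T, i₂, q, hqf, hqs, fun j x => ?_⟩
  obtain ⟨s', t, ht⟩ := hqt j
  haveI := i₂ j
  obtain ⟨e, he⟩ := hbc s' t
  obtain ⟨hA, hP⟩ := exists_chart_DS (T := T j) (M s')
  let e' : pullback H.hom (q j ≫ U.ι) ≅ (Red.DS (T j) (M s')).left := pullback.congrHom rfl ht ≪≫ e
  have he' : e'.hom ≫ (Red.DS (T j) (M s')).hom = pullback.snd H.hom (q j ≫ U.ι) := by
    simp only [e', Iso.trans_hom, Category.assoc, he, pullback.congrHom_hom]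
    exact (pullback.lift_snd _ _ _).trans (Category.comp_id _)
  let P := pullback H.hom (q j ≫ U.ι)
  haveI : IsAffine P := .of_isIso e'.hom
  refine ⟨⊤, trivial, isAffineOpen_top _, ?_⟩
  haveI : IsAffine ((⊤ : P.Opens) : Scheme.{u}) := isAffineOpen_top P
  letI := ((⊤ : P.Opens).ι ≫ pullback.snd H.hom (q j ≫ U.ι)).appTop.hom.toAlgebra
  letI := (Red.DS (T j) (M s')).hom.appTop.hom.toAlgebra
  let d : ((⊤ : P.Opens) : Scheme.{u}) ≅ (Red.DS (T j) (M s')).left := P.topIso ≪≫ e'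
  let eA : Γ((Red.DS (T j) (M s')).left, ⊤) ≃ₐ[Γ(T j, ⊤)] Γ(((⊤ : P.Opens) : Scheme.{u}), ⊤) :=
    AlgEquiv.ofRingEquiv (f := (asIso d.hom.appTop).commRingCatIsoToRingEquiv) fun z => by
      refine congrArg (fun m => m.appTop.hom z) (?_ : d.hom ≫ (Red.DS (T j) (M s')).hom = _)
      simp only [d, Iso.trans_hom, Category.assoc, he', Scheme.topIso_hom]
  haveI := hP
  exact Module.Projective.of_equiv eA.toLinearEquiv

end Groth.Agent.MultTypeGen
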