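import Groth.Agent.MultTypeGen.EssFree
import Groth.Agent.MultTypeLib.TransporterSmooth

/-!
# Transporters of homomorphisms out of groups of multiplicative type of arbitrary type
-/

universe u

open CategoryTheory CategoryTheory.Limits MonoidalCategory CartesianMonoidalCategory MonObj AlgebraicGeometry
open TensorProduct WithConv

namespace Groth.Agent.MultTypeGen

open GrpSchLib.AffineHopf MultTypeLib MultTypeLib.GenMultType MultTypeLib.TransporterLift

attribute [local instance 2000] MultTypeLib.algConvGroup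

set_option maxHeartbeats 800000 in
/-- Transporting points lift along nilpotent ideals, over an affine base. -/
theorem exists_lift_affine {B : Type u} [CommRing B] (H G : Over (Spec (CommRingCat.of B))) [GrpObj H] [GrpObj G]
    (hH : IsMT H) [IsAffine G.left] [Smooth G.hom] (u₁ u₂ : H ⟶ G) [IsMonHom u₁] [IsMonHom u₂]
    (J : Ideal B) (hJ : IsNilpotent J) (g₀ : sp B (B ⧸ J) ⟶ G) (h0 : Transp u₁ u₂ g₀) :
    ∃ g : sp B B ⟶ G, spMap (Ideal.Quotient.mkₐ B J) ≫ g = g₀ ∧ Transp u₁ u₂ g := by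
  obtain ⟨A, _, _, hA, ⟨eH⟩⟩ := GenMultType.exists_hopf_multType H hH
  obtain ⟨C, _, _, ⟨eG⟩⟩ := exists_hopf G
  let eh : sp B A ⟶ H := eH.hom.hom.hom
  let eh' : H ⟶ sp B A := eH.inv.hom.hom
  have heh : eh' ≫ eh = 𝟙 H := congrArg (fun h => h.hom.hom) eH.inv_hom_id
  let θ : sp B C ⟶ G := eG.hom.hom.hom
  let θ' : G ⟶ sp B C := eG.inv.hom.hom
  have hθ : θ' ≫ θ = 𝟙 G := congrArg (fun h => h.hom.hom) eG.inv_hom_id
  have hθ' : θ ≫ θ' = 𝟙 (sp B C) := congrArg (fun h => h.hom.hom) eG.hom_inv_id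
  haveI : IsMonHom eh := eH.hom.hom.isMonHom_hom
  haveI : IsMonHom θ := eG.hom.hom.isMonHom_hom
  haveI : IsMonHom θ' := eG.inv.hom.isMonHom_hom
  haveI : Algebra.FormallySmooth B C := by
    haveI : IsIso θ := ⟨θ', hθ', hθ⟩
    haveI : IsIso θ.left := inferInstanceAs (IsIso ((Over.forget _).map θ))
    have h : Smooth (sp B C).hom := by
      rw [← Over.w θ]
      infer_instance
    have h' := RingHom.smooth_algebraMap.mp ((HasRingHomProperty.Spec_iff (P := @Smooth)
      (φ := CommRingCat.ofHom (algebraMap B C))).mp h)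
    exact h'.formallySmooth
  obtain ⟨mn⟩ := exists_mean hA
  obtain ⟨c₁, hc₁⟩ := exists_bialgHom (eh ≫ u₁ ≫ θ')
  obtain ⟨c₂, hc₂⟩ := exists_bialgHom (eh ≫ u₂ ≫ θ')
  obtain ⟨x₀', hx₀'⟩ := exists_eq_spMap (g₀ ≫ θ')
  let x₀ : C →ₐ[B] B := Algebra.FormallySmooth.lift J hJ x₀'
  have hx₀ : (Ideal.Quotient.mkₐ B J).comp x₀ = x₀' := Algebra.FormallySmooth.comp_lift J hJ x₀'
  let J' : Ideal A := J.map (algebraMap B A)
  let π : A →ₐ[B] A ⧸ J' := Ideal.Quotient.mkₐ B J'
  let ι₀ : B ⧸ J →ₐ[B] A ⧸ J' := Ideal.Quotient.liftₐ J (Algebra.ofId B (A ⧸ J')) fun b hb => by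
    show algebraMap B (A ⧸ J') b = 0
    rw [IsScalarTower.algebraMap_apply B A (A ⧸ J'), Ideal.Quotient.algebraMap_eq, Ideal.Quotient.eq_zero_iff_mem]
    exact Ideal.mem_map_of_mem _ hb
  let P : ∀ (T : Type u) [CommRing T] [Algebra B T], WithConv (C →ₐ[B] T) ≃* (sp B T ⟶ sp B C) := fun T _ _ =>
    Spec.mapMulEquiv
  have hP : ∀ (T : Type u) [CommRing T] [Algebra B T] (f : C →ₐ[B] T), P T (toConv f) = spMap f := fun T _ _ f => rfl
  have hcong : Cong J (lin (conjPt (toConv x₀) (toConv (c₁ : C →ₐ[B] A)))) (lin (toConv (c₂ : C →ₐ[B] A))) := by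
    have key : convMap π (conjPt (toConv x₀) (toConv (c₁ : C →ₐ[B] A))) = convMap π (toConv (c₂ : C →ₐ[B] A)) := by
      apply (P (A ⧸ J')).injective
      have h := congrArg (· ≫ θ') (h0 (sp B (A ⧸ J')) (spMap ι₀) (spMap π ≫ eh))
      simp only [MonObj.mul_comp, GrpObj.inv_comp, Category.assoc, hc₁, hc₂, hx₀', spMap_comp] at h
      have e0 : ι₀.comp x₀' = (Algebra.ofId B (A ⧸ J')).comp x₀ := by
        rw [← hx₀, ← AlgHom.comp_assoc]
        congr 1
      rw [e0] at h
      simp only [conjPt, map_mul, map_inv, convMap_ofId]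
      exact h
    intro c
    rw [Ideal.smul_top_eq_map]
    have := congrArg (fun f => f.ofConv c) key
    exact Ideal.Quotient.eq.mp this
  obtain ⟨x, hx, hxb⟩ := mn.exists_conjPt hJ (isHomPt_bialgHom c₁) (isHomPt_bialgHom c₂) (toConv x₀) hcong
  refine ⟨spMap x.ofConv ≫ θ, ?_, fun X' t h => ?_⟩
  · rw [← Category.assoc, spMap_comp]
    have e : (Ideal.Quotient.mkₐ B J).comp x.ofConv = x₀' := by
      rw [← hx₀]
      refine AlgHom.ext fun c => Ideal.Quotient.eq.mpr ?_
      have h := hx c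
      rwa [Ideal.smul_top_eq_map, Algebra.algebraMap_self, Ideal.map_id] at h
    rw [e, ← hx₀', Category.assoc, hθ, Category.comp_id]
  · have huniv : (spMap (Algebra.ofId B A) ≫ spMap x.ofConv ≫ θ) * (eh ≫ u₁) *
        (spMap (Algebra.ofId B A) ≫ spMap x.ofConv ≫ θ)⁻¹ = eh ≫ u₂ := by
      have h := congrArg (P A) hxb
      simp only [conjPt, map_mul, map_inv] at h
      rw [show P A (convMap (Algebra.ofId B A) x) = spMap (Algebra.ofId B A) ≫ spMap x.ofConv from
          (spMap_comp _ _).symm,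
        show P A (toConv (c₁ : C →ₐ[B] A)) = eh ≫ u₁ ≫ θ' from hc₁.symm,
        show P A (toConv (c₂ : C →ₐ[B] A)) = eh ≫ u₂ ≫ θ' from hc₂.symm] at h
      have h' := congrArg (· ≫ θ) h
      simp only [MonObj.mul_comp, GrpObj.inv_comp, Category.assoc, hθ, Category.comp_id] at h'
      exact h'
    have := congrArg (fun f => (h ≫ eh') ≫ f) huniv
    simp only [MonObj.comp_mul, GrpObj.comp_inv, ← Category.assoc] at this
    rw [show ((h ≫ eh') ≫ eh) = h by rw [Category.assoc, heh, Category.comp_id],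
      over_subsingleton ((h ≫ eh') ≫ spMap (Algebra.ofId B A)) t] at this
    simpa only [Category.assoc] using this

/-- Transporting points lift along nilpotent thickenings of affine schemes over the base. -/
theorem exists_lift {S : Scheme.{u}} (H G : Over S) [GrpObj H] [GrpObj G] (hH : IsMT H)
    [IsAffineHom G.hom] [Smooth G.hom] (u₁ u₂ : H ⟶ G) [IsMonHom u₁] [IsMonHom u₂]
    {B : Type u} [CommRing B] (t : Spec (CommRingCat.of B) ⟶ S) (J : Ideal B) (hJ : IsNilpotent J)
    (g₀ : (Over.map t).obj (sp B (B ⧸ J)) ⟶ G) (h0 : Transp u₁ u₂ g₀) :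
    ∃ g : (Over.map t).obj (sp B B) ⟶ G,
      (Over.map t).map (spMap (Ideal.Quotient.mkₐ B J)) ≫ g = g₀ ∧ Transp u₁ u₂ g := by
  let F := Over.pullback t
  let adj := Over.mapPullbackAdj t
  have hmul : ∀ {X : Over (Spec (CommRingCat.of B))} (a b : (Over.map t).obj X ⟶ G),
      adj.homEquiv X G (a * b) = adj.homEquiv X G a * adj.homEquiv X G b := by
    intro X a b
    rw [Adjunction.homEquiv_unit, Adjunction.homEquiv_unit, Adjunction.homEquiv_unit, Functor.map_mul,
      MonObj.comp_mul]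
  let Φ : ∀ X, (((Over.map t).obj X ⟶ G) →* (X ⟶ F.obj G)) := fun X => MonoidHom.mk' (adj.homEquiv X G) hmul
  have hΦ : ∀ X, Function.Injective (Φ X) := fun X => (adj.homEquiv X G).injective
  haveI : IsAffine (F.obj G).left := by
    haveI : IsAffineHom (F.obj G).hom := inferInstanceAs (IsAffineHom (pullback.snd G.hom t))
    exact isAffine_of_isAffineHom (F.obj G).hom
  haveI : Smooth (F.obj G).hom := inferInstanceAs (Smooth (pullback.snd G.hom t))
  haveI : IsMonHom (F.map u₁) := inferInstance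
  haveI : IsMonHom (F.map u₂) := inferInstance
  have hbwd : Transp (F.map u₁) (F.map u₂) (Φ _ g₀) := by
    intro X x h
    obtain ⟨h', rfl⟩ := (adj.homEquiv X H).surjective h
    have e := congrArg (Φ X) (h0 ((Over.map t).obj X) ((Over.map t).map x) h')
    rw [map_mul, map_mul, map_inv] at e
    simp only [Φ, MonoidHom.mk'_apply, Adjunction.homEquiv_naturality_left] at e
    simp only [Adjunction.homEquiv_naturality_right] at e
    exact e
  obtain ⟨g', hg', hg'T⟩ := exists_lift_affine (F.obj H) (F.obj G) (isMT_bc t hH)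
    (F.map u₁) (F.map u₂) J hJ _ hbwd
  obtain ⟨g, rfl⟩ := (adj.homEquiv _ G).surjective g'
  refine ⟨g, (adj.homEquiv _ G).injective ?_, fun X' x h => ?_⟩
  · rw [Adjunction.homEquiv_naturality_left]
    exact hg'
  · let X : Over (Spec (CommRingCat.of B)) := Over.mk (x.left ≫ (sp B B).hom)
    let x₁ : X ⟶ sp B B := Over.homMk x.left rfl
    let e : X' ≅ (Over.map t).obj X := Over.isoMk (Iso.refl _) (by
      show 𝟙 _ ≫ (x.left ≫ (sp B B).hom) ≫ t = X'.hom
      rw [Category.id_comp, Category.assoc]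
      exact Over.w x)
    have hx : e.inv ≫ x = (Over.map t).map x₁ := Over.OverMorphism.ext (Category.id_comp _)
    rw [← cancel_epi e.inv]
    apply hΦ X
    have e' := hg'T X x₁ (adj.homEquiv X H (e.inv ≫ h))
    simp only [MonObj.comp_mul, GrpObj.comp_inv, ← Category.assoc, hx, map_mul, map_inv]
    simp only [Φ, MonoidHom.mk'_apply, Adjunction.homEquiv_naturality_left]
    simp only [Adjunction.homEquiv_naturality_right] at e' ⊢
    exact e'

section

variable {S : Scheme.{u}} {H G : Over S} [GrpObj H] [GrpObj G]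

/-- The transporter of two homomorphisms out of a group of multiplicative type into a smooth affine group is a smooth
closed subscheme. -/
theorem exists_transporter (hH : IsMT H) [IsAffineHom G.hom] [Smooth G.hom]
    (u₁ u₂ : H ⟶ G) [IsMonHom u₁] [IsMonHom u₂] :
    ∃ (T : Over S) (j : T ⟶ G), IsClosedImmersion j.left ∧ Smooth T.hom ∧
      ∀ (X : Over S) (g : X ⟶ G), (∃ t : X ⟶ T, t ≫ j = g) ↔ Transp u₁ u₂ g := by
  obtain ⟨hHaff, hHe⟩ := locDiag_essFree hH
  let d : G ⟶ G ⊗ G := lift (𝟙 G) (𝟙 G)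
  have hd : d.left = pullback.diagonal G.hom := by
    apply pullback.hom_ext
    · exact (congrArg CommaMorphism.left (lift_fst (𝟙 G) (𝟙 G))).trans (pullback.diagonal_fst G.hom).symm
    · exact (congrArg CommaMorphism.left (lift_snd (𝟙 G) (𝟙 G))).trans (pullback.diagonal_snd G.hom).symm
  haveI : IsClosedImmersion d.left := by rw [hd]; infer_instance
  haveI : LocallyOfFinitePresentation d.left := by
    haveI : LocallyOfFinitePresentation (d.left ≫ pullback.fst G.hom G.hom) := by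
      rw [hd, pullback.diagonal_fst]; exact inferInstanceAs (LocallyOfFinitePresentation (𝟙 G.left))
    haveI : LocallyOfFiniteType (pullback.fst G.hom G.hom) := inferInstance
    exact AlgSpPts.locallyOfFinitePresentation_of_comp d.left (pullback.fst G.hom G.hom)
  obtain ⟨T, c, hc, hcfp, hT⟩ := TransLib.exists_closed_universal_essFree (X := G) hHe
    (lift (snd H G * (fst H G ≫ u₁) * (snd H G)⁻¹) (fst H G ≫ u₂)) d
  have key : ∀ (X : Over S) (g : X ⟶ G), (∃ t : X ⟶ T, t ≫ c = g) ↔ Transp u₁ u₂ g := fun X g => by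
    refine (hT g).trans ⟨fun ⟨l, hl⟩ X' x a => ?_, fun h => ?_⟩
    · have h1 := congrArg (fun m => lift a x ≫ m ≫ fst G G) hl
      have h2 := congrArg (fun m => lift a x ≫ m ≫ snd G G) hl
      simp [d, MonObj.comp_mul, GrpObj.comp_inv, lift_whiskerLeft_assoc] at h1 h2
      rw [← h1, ← h2]
    · have h' := h (H ⊗ X) (snd H X) (fst H X)
      refine ⟨fst H X ≫ u₂, ?_⟩
      apply CartesianMonoidalCategory.hom_ext
      · simp [d, MonObj.comp_mul, GrpObj.comp_inv, h']
      · simp [d]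
  haveI : IsClosedImmersion c.left := hc
  haveI : LocallyOfFinitePresentation c.left := hcfp inferInstance inferInstance
  haveI : IsAffineHom T.hom := by rw [← Over.w c]; infer_instance
  haveI : LocallyOfFinitePresentation T.hom := by rw [← Over.w c]; infer_instance
  refine ⟨T, c, hc, SmoothLifting.smooth_of_lift T.hom fun B _ J hJ t p₀ hp₀ => ?_, key⟩
  let p₁ : (Over.map t).obj (sp B (B ⧸ J)) ⟶ T := Over.homMk p₀ hp₀
  obtain ⟨g, hg, hgT⟩ := exists_lift H G hH u₁ u₂ t J ⟨2, hJ⟩ (p₁ ≫ c) ((key _ _).mp ⟨p₁, rfl⟩)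
  obtain ⟨p, hp⟩ := (key _ g).mpr hgT
  haveI : Mono c := (Over.forget _).mono_of_mono_map (inferInstanceAs (Mono c.left))
  have e : (Over.map t).map (spMap (Ideal.Quotient.mkₐ B J)) ≫ p = p₁ := by
    rw [← cancel_mono c, Category.assoc, hp, hg]
  refine ⟨p.left, ?_, congrArg (fun m => CommaMorphism.left m) e⟩
  exact (Over.w p).trans ((congrArg (· ≫ t) (Spec.map_id _)).trans (Category.id_comp t))

/-- The centralizer of a homomorphism out of a group of multiplicative type into a smooth affine group is a smooth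
closed subgroup. -/
theorem exists_centralizer (hH : IsMT H) [IsAffineHom G.hom] [Smooth G.hom]
    (u : H ⟶ G) [IsMonHom u] :
    ∃ (Z : Over S) (_ : GrpObj Z) (j : Z ⟶ G), Red.IsCentralizerOf u j ∧ IsClosedImmersion j.left ∧ Smooth Z.hom := by
  obtain ⟨Z, j, hj, hZs, hZ⟩ := exists_transporter hH u u
  haveI : IsClosedImmersion j.left := hj
  haveI : Mono j := (Over.forget _).mono_of_mono_map (inferInstanceAs (Mono j.left))
  have htr : ∀ {X : Over S} (g : X ⟶ G), Transp u u g ↔
      ∀ (X' : Over S) (x : X' ⟶ X) (a : X' ⟶ H), Commute (x ≫ g) (a ≫ u) := fun g =>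
    forall_congr' fun X' => forall_congr' fun x => forall_congr' fun a => mul_inv_eq_iff_eq_mul
  have hjc : ∀ {X : Over S} (z : X ⟶ Z) (X' : Over S) (x : X' ⟶ X) (a : X' ⟶ H),
      Commute (x ≫ z ≫ j) (a ≫ u) := fun z => (htr _).mp ((hZ _ _).mp ⟨z, rfl⟩)
  obtain ⟨e', he'⟩ := (hZ _ η[G]).mpr ((htr _).mpr fun X' x a => by
    rw [show x ≫ η[G] = (1 : X' ⟶ G) by rw [Hom.one_def, toUnit_unique x (toUnit _)]]
    exact Commute.one_left _)
  obtain ⟨m', hm'⟩ := (hZ _ ((fst Z Z ≫ j) * (snd Z Z ≫ j))).mpr ((htr _).mpr fun X' x a => by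
    rw [MonObj.comp_mul]
    exact (hjc (fst Z Z) X' x a).mul_left (hjc (snd Z Z) X' x a))
  obtain ⟨v', hv'⟩ := (hZ _ j⁻¹).mpr ((htr _).mpr fun X' x a => by
    rw [GrpObj.comp_inv]
    have := hjc (𝟙 Z) X' x a
    rw [Category.id_comp] at this
    exact this.inv_left)
  obtain ⟨str, hstr⟩ := GrpSchLib.exists_grpObj_of_mono j e' he' m' hm' v' hv'
  exact ⟨Z, str, j, ⟨hstr, ‹Mono j›, fun X g => (hZ X g).trans (htr g)⟩, hj, hZs⟩

end

end Groth.Agent.MultTypeGen
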