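import Groth.Agent.MultTypeLib.GenTransporter

/-!
# Transporters of inclusion between subgroups of multiplicative type of smooth groups
-/

universe u

open CategoryTheory CategoryTheory.Limits MonoidalCategory CartesianMonoidalCategory MonObj AlgebraicGeometry
open scoped CategoryTheory.Obj

namespace Groth.Agent.MultTypeGen

open MultTypeLib MultTypeLib.GenMultType MultTypeLib.HomLift

variable {S : Scheme.{u}} {H₁ H₂ G : Over S} [GrpObj H₁] [GrpObj H₂] [GrpObj G]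

/-- A point conjugating one subgroup into another one. -/
def TranspLE (i₁ : H₁ ⟶ G) (i₂ : H₂ ⟶ G) {X : Over S} (g : X ⟶ G) : Prop :=
  ∀ (X' : Over S) (x : X' ⟶ X) (a : X' ⟶ H₁), ∃ b : X' ⟶ H₂, (x ≫ g) * (a ≫ i₁) * (x ≫ g)⁻¹ = b ≫ i₂

set_option maxHeartbeats 800000 in
/-- Points conjugating one subgroup into another lift along nilpotent ideals. -/
theorem exists_lift_transpLE (hH₁ : SGA3x.IsMultTypeFT H₁) (hH₂ : SGA3x.IsMultTypeFT H₂) [Smooth G.hom]
    (i₁ : H₁ ⟶ G) [IsMonHom i₁] (i₂ : H₂ ⟶ G) [IsMonHom i₂] [Mono i₂] {B : Type u} [CommRing B]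
    (t : Spec (CommRingCat.of B) ⟶ S) (J : Ideal B) (hJ : IsNilpotent J)
    (g₀ : GenLift.PT t (Ideal.Quotient.mk J) ⟶ G) (h0 : TranspLE i₁ i₂ g₀) :
    ∃ g : Over.mk t ⟶ G, GenLift.ptm t (Ideal.Quotient.mk J) ≫ g = g₀ ∧ TranspLE i₁ i₂ g := by
  let F := Over.pullback t
  let adj := Over.mapPullbackAdj t
  have hmul : ∀ {X : Over (Spec (CommRingCat.of B))} (a b : (Over.map t).obj X ⟶ G),
      adj.homEquiv X G (a * b) = adj.homEquiv X G a * adj.homEquiv X G b := by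
    intro X a b
    rw [Adjunction.homEquiv_unit, Adjunction.homEquiv_unit, Adjunction.homEquiv_unit, Functor.map_mul,
      MonObj.comp_mul]
  haveI : Smooth (F.obj G).hom := inferInstanceAs (Smooth (pullback.snd G.hom t))
  haveI : IsMonHom (F.map i₁) := inferInstance
  haveI : IsMonHom (F.map i₂) := inferInstance
  haveI : Mono (F.map i₂) := inferInstance
  have hST : ∀ (X : Over (Spec (CommRingCat.of B))) (p : X ⟶ P₀ J) (h : X ⟶ F.obj H₁),
      ∃ h' : X ⟶ F.obj H₂, (p ≫ adj.homEquiv (P₀ J) G g₀) * (h ≫ F.map i₁) * (p ≫ adj.homEquiv (P₀ J) G g₀)⁻¹ =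
        h' ≫ F.map i₂ := by
    intro X p h
    obtain ⟨h', rfl⟩ := (adj.homEquiv X H₁).surjective h
    obtain ⟨k, hk⟩ := h0 ((Over.map t).obj X) ((Over.map t).map p) h'
    refine ⟨adj.homEquiv X H₂ k, ?_⟩
    let Φ : ((Over.map t).obj X ⟶ G) →* (X ⟶ F.obj G) := MonoidHom.mk' (adj.homEquiv X G) hmul
    have e := congrArg Φ hk
    rw [map_mul, map_mul, map_inv] at e
    rw [← Adjunction.homEquiv_naturality_left, ← Adjunction.homEquiv_naturality_right,
      ← Adjunction.homEquiv_naturality_right]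
    exact e
  obtain ⟨φ, hφm, hφ⟩ := exists_hom_lift J hJ (H := F.obj H₁) (H' := F.obj H₂) (G := F.obj G)
    (isMT_bc t (of_multTypeFT hH₁)) (isMT_bc t (of_multTypeFT hH₂)) (F.map i₁) (F.map i₂) _ hST
  haveI := hφm
  obtain ⟨g, hg, hgc⟩ := ConjNilLift.exists_conj_lift J hJ (H := F.obj H₁) (G := F.obj G)
    (isMT_bc t (of_multTypeFT hH₁)) (F.map i₁) (φ ≫ F.map i₂) _
    (fun X p h => (Category.assoc h φ (F.map i₂)).symm.trans (hφ X p h))
  let e : Over.mk t ≅ (Over.map t).obj (𝟙_ (Over (Spec (CommRingCat.of B)))) :=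
    Over.isoMk (Iso.refl _) (by
      show 𝟙 _ ≫ 𝟙 _ ≫ t = t
      rw [Category.id_comp, Category.id_comp])
  obtain ⟨g', hg'⟩ := (adj.homEquiv (𝟙_ (Over (Spec (CommRingCat.of B)))) G).surjective g
  have hnat : (Over.map t).map (toUnit (P₀ J)) ≫ g' = g₀ := by
    apply (adj.homEquiv (P₀ J) G).injective
    rw [Adjunction.homEquiv_naturality_left, hg', hg]
  refine ⟨e.hom ≫ g', ?_, ?_⟩
  · have e1 : GenLift.ptm t (Ideal.Quotient.mk J) ≫ e.hom = (Over.map t).map (toUnit (P₀ J)) := by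
      refine Over.OverMorphism.ext ?_
      show Spec.map _ ≫ 𝟙 _ = _
      rw [Category.comp_id]
      exact ((Category.comp_id _).symm.trans (Over.w (toUnit (P₀ J)))).symm
    rw [← Category.assoc, e1, hnat]
  · intro X' x a
    let Y : Over (Spec (CommRingCat.of B)) := Over.mk x.left
    let ε : X' ≅ (Over.map t).obj Y := Over.isoMk (Iso.refl _) (by
      show 𝟙 _ ≫ x.left ≫ t = X'.hom
      rw [Category.id_comp]
      exact Over.w x)
    let Φ : ((Over.map t).obj Y ⟶ G) →* (Y ⟶ F.obj G) := MonoidHom.mk' (adj.homEquiv Y G) hmul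
    have hx : Φ (ε.inv ≫ x ≫ e.hom ≫ g') = toUnit Y ≫ g := by
      show adj.homEquiv Y G _ = _
      rw [← hg', ← Adjunction.homEquiv_naturality_left, ← Category.assoc x, ← Category.assoc ε.inv]
      congr 2
    refine ⟨ε.hom ≫ (adj.homEquiv Y H₂).symm (adj.homEquiv Y H₁ (ε.inv ≫ a) ≫ φ), ?_⟩
    rw [← cancel_epi ε.inv]
    apply (adj.homEquiv Y G).injective
    show Φ _ = Φ _
    simp only [MonObj.comp_mul, GrpObj.comp_inv, map_mul, map_inv, hx, Category.assoc, Iso.inv_hom_id_assoc]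
    show _ * adj.homEquiv Y G (ε.inv ≫ a ≫ i₁) * _ = adj.homEquiv Y G _
    rw [← Category.assoc ε.inv a]
    generalize ε.inv ≫ a = a'
    rw [Adjunction.homEquiv_naturality_right, Adjunction.homEquiv_naturality_right,
      Equiv.apply_symm_apply, Category.assoc, hgc]

/-- The transporter of inclusion of subgroups of multiplicative type is a smooth closed subscheme. -/
theorem exists_transporterLE (hH₁ : SGA3x.IsMultTypeFT H₁) (hH₂ : SGA3x.IsMultTypeFT H₂) [Smooth G.hom]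
    (i₁ : H₁ ⟶ G) [IsMonHom i₁] (i₂ : H₂ ⟶ G) [IsMonHom i₂] [IsClosedImmersion i₂.left] :
    ∃ (T : Over S) (j : T ⟶ G), IsClosedImmersion j.left ∧ Smooth T.hom ∧
      ∀ (X : Over S) (g : X ⟶ G), (∃ t : X ⟶ T, t ≫ j = g) ↔ TranspLE i₁ i₂ g := by
  obtain ⟨hA₁, hE₁⟩ := TransLib.multTypeFT_essFree hH₁
  haveI : Mono i₂ := (Over.forget _).mono_of_mono_map (inferInstanceAs (Mono i₂.left))
  obtain ⟨T, j, hj, hf₁, hT₁⟩ := TransLib.exists_closed_universal_essFree (X := G) hE₁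
    (snd H₁ G * (fst H₁ G ≫ i₁) * (snd H₁ G)⁻¹) i₂
  have key : ∀ (X : Over S) (g : X ⟶ G), (∃ t : X ⟶ T, t ≫ j = g) ↔ TranspLE i₁ i₂ g := fun X g => by
    refine (hT₁ g).trans ⟨fun ⟨l, hl⟩ X' x a => ?_, fun h => ?_⟩
    · refine ⟨lift a x ≫ l, ?_⟩
      rw [Category.assoc, hl]
      simp [MonObj.comp_mul, GrpObj.comp_inv, lift_whiskerLeft_assoc]
    · obtain ⟨b, hb⟩ := h (H₁ ⊗ X) (snd H₁ X) (fst H₁ X)
      exact ⟨b, by rw [← hb]; simp [MonObj.comp_mul, GrpObj.comp_inv]⟩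
  haveI : LocallyOfFinitePresentation j.left := hf₁ inferInstance (SubgroupTransporter.lfp_of_mono hH₂ i₂)
  haveI : IsClosedImmersion j.left := hj
  haveI : LocallyOfFinitePresentation T.hom := by rw [← Over.w j]; infer_instance
  refine ⟨T, j, hj, (Groth.Agent.S1488.result T.hom).mpr ⟨inferInstance, fun B _ J hJ p₀ t hp₀ => ?_⟩, key⟩
  obtain ⟨g, hg, hgS⟩ := exists_lift_transpLE hH₁ hH₂ i₁ i₂ t J ⟨2, hJ⟩
    ((Over.homMk p₀ hp₀.symm : GenLift.PT t (Ideal.Quotient.mk J) ⟶ T) ≫ j) ((key _ _).mp ⟨_, rfl⟩)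
  obtain ⟨p, hp⟩ := (key _ g).mpr hgS
  haveI : Mono j := (Over.forget _).mono_of_mono_map (inferInstanceAs (Mono j.left))
  have e : GenLift.ptm t (Ideal.Quotient.mk J) ≫ p = Over.homMk p₀ hp₀.symm := by
    rw [← cancel_mono j, Category.assoc, hp, hg]
  exact ⟨p.left, congrArg (fun m => CommaMorphism.left m) e, Over.w p⟩

end Groth.Agent.MultTypeGen
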